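import Mathlib
import Groth.Agent.Lib.CurveLocus.Basic
import Groth.Agent.Lib.GrpSchField.ReducedProd
import Groth.Agent.Lib.RedSub.Basic

/-!
# Separable points and geometric reducedness
-/

set_option autoImplicit false
set_option linter.style.haveILetI false

universe u

open CategoryTheory Limits AlgebraicGeometry TensorProduct

namespace GrothLib.SepPts

variable {k : Type u} [Field k] {Z : Scheme.{u}}

/-- A point hit by a point with values in a separable extension field. -/
def IsSepPt (g : Z ⟶ Spec (CommRingCat.of k)) (ζ : Z) : Prop :=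
  ∃ (k' : Type u) (_ : Field k') (_ : Algebra k k') (_ : Algebra.IsGeometricallyReduced k k')
    (x : Spec (CommRingCat.of k') ⟶ Z), x ≫ g = Spec.map (CommRingCat.ofHom (algebraMap k k')) ∧ ζ ∈ Set.range x

/-- A product of separable extensions is geometrically reduced. -/
theorem isGeometricallyReduced_pi {ι : Type u} (B : ι → Type u) [∀ i, CommRing (B i)] [∀ i, Algebra k (B i)]
    [∀ i, Algebra.IsGeometricallyReduced k (B i)] : Algebra.IsGeometricallyReduced k (∀ i, B i) := by
  rw [Algebra.isGeometricallyReduced_field_iff]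
  let K := AlgebraicClosure k
  refine isReduced_of_injective
    (AlgHom.pi fun i => Algebra.TensorProduct.map (AlgHom.id K K) (Pi.evalAlgHom k B i) :
      K ⊗[k] (∀ i, B i) →ₐ[K] ∀ i, K ⊗[k] B i) ?_
  rw [injective_iff_map_eq_zero]
  intro x hx
  classical
  let e := Module.Free.chooseBasis k K
  obtain ⟨b, rfl⟩ := TensorProduct.eq_repr_basis_left e x
  suffices b = 0 by rw [this, Finsupp.sum_zero_index]
  ext j i
  have hi := congrFun hx i
  rw [AlgHom.pi_apply, Finsupp.sum, map_sum] at hi
  let b' := b.mapRange (fun v => v i) rfl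
  have h' : b'.sum (fun j a => e j ⊗ₜ[k] a) = 0 := by
    rw [Finsupp.sum_mapRange_index (fun j => TensorProduct.tmul_zero _ _), Finsupp.sum]
    exact hi
  exact DFunLike.congr_fun (TensorProduct.sum_tmul_basis_left_eq_zero e b' h') j

theorem isGeometricallyReduced_of_dense [IsReduced Z] (g : Z ⟶ Spec (CommRingCat.of k)) {A : CommRingCat.{u}}
    (i : Spec A ⟶ Z) [IsOpenImmersion i] [Algebra k A]
    (hi : i ≫ g = Spec.map (CommRingCat.ofHom (algebraMap k A))) {T : Set Z} (hT : Dense T)
    (hsep : ∀ ζ ∈ T, IsSepPt g ζ) : Algebra.IsGeometricallyReduced k A := by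
  choose k' _ _ _ x hx hmem using fun ζ : {ζ : Z // ζ ∈ T ∧ ζ ∈ Set.range i} => hsep ζ.1 ζ.2.1
  have hr : ∀ ζ, Set.range (x ζ) ⊆ Set.range i := by
    rintro ζ _ ⟨s, rfl⟩
    obtain ⟨s', hs'⟩ := hmem ζ
    rw [Subsingleton.elim (α := PrimeSpectrum (k' ζ)) s s', hs']
    exact ζ.2.2
  let φ := fun ζ => Spec.preimage (IsOpenImmersion.lift i (x ζ) (hr ζ))
  have hφ : ∀ ζ, Spec.map (φ ζ) ≫ i = x ζ := fun ζ => by rw [Spec.map_preimage, IsOpenImmersion.lift_fac]
  have hφk : ∀ ζ (c : k), (φ ζ).hom (algebraMap k A c) = algebraMap k (k' ζ) c := fun ζ c => by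
    have h := hx ζ
    rw [← hφ ζ, Category.assoc, hi, ← Spec.map_comp] at h
    exact DFunLike.congr_fun (congrArg CommRingCat.Hom.hom (Spec.map_injective h)) c
  let ψ : A →ₐ[k] ∀ ζ, k' ζ := AlgHom.pi fun ζ => AlgHom.mk (φ ζ).hom (hφk ζ)
  haveI := isGeometricallyReduced_pi (k := k) k'
  refine Algebra.IsGeometricallyReduced.of_injective ψ ((injective_iff_map_eq_zero ψ).2 fun a ha => ?_)
  haveI : IsReduced (Spec A) := isReduced_of_isOpenImmersion i
  haveI : _root_.IsReduced A := (affine_isReduced_iff A).1 inferInstance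
  refine IsNilpotent.eq_zero ((PrimeSpectrum.basicOpen_eq_bot_iff a).1 (eq_bot_iff.2 fun s hs => ?_))
  exfalso
  obtain ⟨ζ, ⟨s', hs', rfl⟩, hζT⟩ :=
    hT.inter_open_nonempty _ (i.isOpenEmbedding.isOpenMap _ (PrimeSpectrum.basicOpen a).2) ⟨i s, s, hs, rfl⟩
  let ζ' : {ζ : Z // ζ ∈ T ∧ ζ ∈ Set.range i} := ⟨i s', hζT, ⟨s', rfl⟩⟩
  obtain ⟨t, ht⟩ := hmem ζ'
  rw [← hφ ζ', Scheme.Hom.comp_apply] at ht
  have e : Spec.map (φ ζ') t = s' := i.isOpenEmbedding.injective ht
  rw [← e] at hs'
  refine hs' ?_
  change (φ ζ').hom a ∈ PrimeSpectrum.asIdeal t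
  rw [show (φ ζ').hom a = 0 from congrFun ha ζ']
  exact Ideal.zero_mem _

/-- A reduced scheme with dense separable points is geometrically reduced. -/
theorem geometricallyReduced_of_dense [IsReduced Z] (g : Z ⟶ Spec (CommRingCat.of k)) {T : Set Z} (hT : Dense T)
    (hsep : ∀ ζ ∈ T, IsSepPt g ζ) : GeometricallyReduced g := by
  rw [GrothLib.CurveLocus.geometricallyReduced_iff]
  intro Ω _ _ t X' i q hsq
  obtain ⟨alg, rfl⟩ := GrothLib.CurveLocus.exists_algebra t
  suffices IsReduced (pullback g (Spec.map (CommRingCat.ofHom (algebraMap k Ω)))) from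
    isReduced_of_isOpenImmersion hsq.isoPullback.hom
  apply +allowSynthFailures @IsReduced.of_openCover
    (𝒰 := Scheme.Pullback.openCoverOfLeft Z.affineOpenCover.openCover g (Spec.map (CommRingCat.ofHom (algebraMap k Ω))))
  intro j
  suffices ∀ (A : CommRingCat.{u}) (i : Spec A ⟶ Z) [IsOpenImmersion i],
      IsReduced (pullback (i ≫ g) (Spec.map (CommRingCat.ofHom (algebraMap k Ω)))) from @this (Z.affineOpenCover.X j) (Z.affineOpenCover.f j) (Z.affineOpenCover.map_prop j)
  intro A i _
  let ρ := Spec.preimage (i ≫ g)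
  let _ : Algebra k A := ρ.hom.toAlgebra
  have hi : i ≫ g = Spec.map (CommRingCat.ofHom (algebraMap k A)) := (Spec.map_preimage _).symm
  haveI := isGeometricallyReduced_of_dense g i hi hT hsep
  haveI : _root_.IsReduced (Ω ⊗[k] A) := GrothLib.GrpSchField.isReduced_tensorProduct
  haveI : _root_.IsReduced (CommRingCat.of ((A : Type u) ⊗[k] Ω)) :=
    isReduced_of_injective (Algebra.TensorProduct.comm k A Ω) (Algebra.TensorProduct.comm k A Ω).injective
  rw [hi]
  exact isReduced_of_isOpenImmersion (pullbackSpecIso k A Ω).hom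

/-- The maximal points of a geometrically reduced scheme are separable points. -/
theorem isSepPt_of_maximal (g : Z ⟶ Spec (CommRingCat.of k)) [GeometricallyReduced g] {η : Z}
    (hη : ∀ w, w ⤳ η → w = η) : IsSepPt g η := by
  obtain ⟨U, hU, hηU, -⟩ := exists_isAffineOpen_mem_and_subset (X := Z) (x := η) (U := ⊤) trivial
  let A := Γ(Z, U)
  let ρ := Spec.preimage (hU.fromSpec ≫ g)
  let _ : Algebra k A := ρ.hom.toAlgebra
  let K := AlgebraicClosure k
  let τ := Spec.map (CommRingCat.ofHom (algebraMap k K))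
  have hi : hU.fromSpec ≫ g = Spec.map (CommRingCat.ofHom (algebraMap k A)) := (Spec.map_preimage _).symm
  haveI : IsReduced (pullback g τ) :=
    ‹GeometricallyReduced g›.geometrically_isReduced _ _ _ (.of_hasPullback g τ)
  haveI : IsReduced (pullback hU.fromSpec (pullback.fst g τ)) :=
    isReduced_of_isOpenImmersion (pullback.snd hU.fromSpec (pullback.fst g τ))
  have hsq := (IsPullback.of_hasPullback hU.fromSpec (pullback.fst g τ)).flip.paste_horiz
    (IsPullback.of_hasPullback g τ).flip
  haveI hRed : IsReduced (pullback (hU.fromSpec ≫ g) τ) := isReduced_of_isOpenImmersion hsq.flip.isoPullback.inv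
  haveI : IsReduced (Spec (CommRingCat.of ((A : Type u) ⊗[k] K))) := by
    rw [hi] at hRed
    exact isReduced_of_isOpenImmersion (pullbackSpecIso k A K).inv
  haveI : _root_.IsReduced ((A : Type u) ⊗[k] K) :=
    (affine_isReduced_iff (CommRingCat.of ((A : Type u) ⊗[k] K))).1 inferInstance
  haveI : _root_.IsReduced (K ⊗[k] A) :=
    isReduced_of_injective (Algebra.TensorProduct.comm k K A) (Algebra.TensorProduct.comm k K A).injective
  haveI : Algebra.IsGeometricallyReduced k A := (Algebra.isGeometricallyReduced_field_iff k A).2 inferInstance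
  haveI : _root_.IsReduced A := Algebra.isReduced_of_isGeometricallyReduced k
  let P := hU.primeIdealOf ⟨η, hηU⟩
  have hP : hU.fromSpec P = η := hU.fromSpec_primeIdealOf _
  have hmin : P.asIdeal ∈ minimalPrimes A := by
    refine ⟨⟨P.2, bot_le⟩, fun Q hQ hle => ?_⟩
    have hspec : (⟨Q, hQ.1⟩ : PrimeSpectrum A) ⤳ P := (PrimeSpectrum.le_iff_specializes _ _).1 hle
    have h1 := hη _ (hP ▸ hspec.map hU.fromSpec.continuous)
    have h2 : (⟨Q, hQ.1⟩ : PrimeSpectrum A) = P := hU.fromSpec.isOpenEmbedding.injective (h1.trans hP.symm)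
    exact (congrArg PrimeSpectrum.asIdeal h2).ge
  let L := Localization.AtPrime P.asIdeal
  have hLf : IsField L := by
    haveI : Ring.KrullDimLE 0 L := by
      rw [Ring.krullDimLE_zero_iff]
      intro Q hQ
      have h : Q.comap (algebraMap A L) = P.asIdeal := by
        have hle : Q.comap (algebraMap A L) ≤ P.asIdeal :=
          ((IsLocalization.AtPrime.orderIsoOfPrime L P.asIdeal) ⟨Q, hQ⟩).2.2
        exact le_antisymm hle (hmin.2 ⟨Ideal.IsPrime.comap _, bot_le⟩ hle)
      have : Q = IsLocalRing.maximalIdeal L := by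
        rw [← IsLocalization.map_comap P.asIdeal.primeCompl L Q]
        exact (congrArg (Ideal.map (algebraMap A L)) h).trans (Localization.AtPrime.map_eq_maximalIdeal)
      exact this ▸ IsLocalRing.maximalIdeal.isMaximal L
    exact Ring.KrullDimLE.isField_of_isReduced
  let _ : Field L := hLf.toField
  haveI : Algebra.IsGeometricallyReduced k L := by
    rw [Algebra.isGeometricallyReduced_field_iff]
    let M := P.asIdeal.primeCompl.map (Algebra.TensorProduct.includeRight (R := k) (A := K) (B := A))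
    let e := IsLocalization.tensorProductEquivOfMapIncludeRight k K P.asIdeal.primeCompl L (Localization M)
    exact isReduced_of_injective e e.injective
  let j : Spec (CommRingCat.of L) ⟶ Spec A := Spec.map (CommRingCat.ofHom (algebraMap A L))
  refine ⟨L, inferInstance, inferInstance, inferInstance, j ≫ hU.fromSpec, ?_, ?_⟩
  · rw [Category.assoc, hi, ← Spec.map_comp, ← CommRingCat.ofHom_comp, ← IsScalarTower.algebraMap_eq]
  · let s₀ : Spec (CommRingCat.of L) := IsLocalRing.closedPoint L
    refine ⟨s₀, ?_⟩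
    rw [Scheme.Hom.comp_apply]
    refine (congrArg hU.fromSpec (PrimeSpectrum.ext ?_)).trans hP
    exact IsLocalization.AtPrime.comap_maximalIdeal L P.asIdeal

end GrothLib.SepPts
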