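import Groth.Agent.Lib.SepPts.Basic
import Groth.Agent.Lib.SepField.Smooth
import Mathlib.AlgebraicGeometry.Morphisms.Smooth

/-!
The smooth locus of a geometrically reduced scheme over a field is dense.
-/

universe u

open CategoryTheory Limits AlgebraicGeometry TensorProduct

namespace GrothLib.SepPts

variable {k : Type u} [Field k] {Z : Scheme.{u}}

/-- Maximal points of a geometrically reduced scheme are smooth points. -/
theorem mem_smoothLocus_of_maximal (g : Z ⟶ Spec (CommRingCat.of k)) [LocallyOfFinitePresentation g]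
    [GeometricallyReduced g] {η : Z} (hη : ∀ w, w ⤳ η → w = η) : η ∈ g.smoothLocus := by
  obtain ⟨U, hU, hηU, -⟩ := exists_isAffineOpen_mem_and_subset (X := Z) (x := η) (U := ⊤) trivial
  let A := Γ(Z, U)
  let ρ := Spec.preimage (hU.fromSpec ≫ g)
  let _ : Algebra k A := ρ.hom.toAlgebra
  let K := AlgebraicClosure k
  let τ := Spec.map (CommRingCat.ofHom (algebraMap k K))
  have hi : hU.fromSpec ≫ g = Spec.map (CommRingCat.ofHom (algebraMap k A)) := (Spec.map_preimage _).symm
  haveI : IsReduced (pullback g τ) :=
    ‹GeometricallyReduced g›.geometrically_isReduced _ _ _ (.of_hasPullback g τ)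
  haveI : IsReduced (pullback hU.fromSpec (pullback.fst g τ)) :=
    isReduced_of_isOpenImmersion (pullback.snd hU.fromSpec (pullback.fst g τ))
  have hsq := (IsPullback.of_hasPullback hU.fromSpec (pullback.fst g τ)).flip.paste_horiz
    (IsPullback.of_hasPullback g τ).flip
  haveI hRed : IsReduced (pullback (hU.fromSpec ≫ g) τ) := isReduced_of_isOpenImmersion hsq.flip.isoPullback.inv
  haveI : IsReduced (Spec (CommRingCat.of ((A : Type u) ⊗[k] K))) := by
    rw [hi] at hRed
    exact isReduced_of_isOpenImmersion (pullbackSpecIso k A K).inv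
  haveI : _root_.IsReduced ((A : Type u) ⊗[k] K) :=
    (affine_isReduced_iff (CommRingCat.of ((A : Type u) ⊗[k] K))).1 inferInstance
  haveI : _root_.IsReduced (K ⊗[k] A) :=
    isReduced_of_injective (Algebra.TensorProduct.comm k K A) (Algebra.TensorProduct.comm k K A).injective
  haveI : Algebra.IsGeometricallyReduced k A := (Algebra.isGeometricallyReduced_field_iff k A).2 inferInstance
  haveI : _root_.IsReduced A := Algebra.isReduced_of_isGeometricallyReduced k
  let P := hU.primeIdealOf ⟨η, hηU⟩
  have hP : hU.fromSpec P = η := hU.fromSpec_primeIdealOf _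
  have hmin : P.asIdeal ∈ minimalPrimes A := by
    refine ⟨⟨P.2, bot_le⟩, fun Q hQ hle => ?_⟩
    have hspec : (⟨Q, hQ.1⟩ : PrimeSpectrum A) ⤳ P := (PrimeSpectrum.le_iff_specializes _ _).1 hle
    have h1 := hη _ (hP ▸ hspec.map hU.fromSpec.continuous)
    have h2 : (⟨Q, hQ.1⟩ : PrimeSpectrum A) = P := hU.fromSpec.isOpenEmbedding.injective (h1.trans hP.symm)
    exact (congrArg PrimeSpectrum.asIdeal h2).ge
  let L := Localization.AtPrime P.asIdeal
  have hLf : IsField L := by
    haveI : Ring.KrullDimLE 0 L := by
      rw [Ring.krullDimLE_zero_iff]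
      intro Q hQ
      have h : Q.comap (algebraMap A L) = P.asIdeal := by
        have hle : Q.comap (algebraMap A L) ≤ P.asIdeal :=
          ((IsLocalization.AtPrime.orderIsoOfPrime L P.asIdeal) ⟨Q, hQ⟩).2.2
        exact le_antisymm hle (hmin.2 ⟨Ideal.IsPrime.comap _, bot_le⟩ hle)
      have : Q = IsLocalRing.maximalIdeal L := by
        rw [← IsLocalization.map_comap P.asIdeal.primeCompl L Q]
        exact (congrArg (Ideal.map (algebraMap A L)) h).trans (Localization.AtPrime.map_eq_maximalIdeal)
      exact this ▸ IsLocalRing.maximalIdeal.isMaximal L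
    exact Ring.KrullDimLE.isField_of_isReduced
  let _ : Field L := hLf.toField
  haveI : Algebra.IsGeometricallyReduced k L := by
    rw [Algebra.isGeometricallyReduced_field_iff]
    let M := P.asIdeal.primeCompl.map (Algebra.TensorProduct.includeRight (R := k) (A := K) (B := A))
    let e := IsLocalization.tensorProductEquivOfMapIncludeRight k K P.asIdeal.primeCompl L (Localization M)
    exact isReduced_of_injective e e.injective
  haveI : Algebra.FormallySmooth k L := GrothLib.SepField.formallySmooth_iff_isGeometricallyReduced.mpr inferInstance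
  have e : U ≤ g ⁻¹ᵁ ⊤ := le_top
  rw [Scheme.Hom.mem_smoothLocus, formallySmooth_stalkMap_iff ⊤ (isAffineOpen_top _) U hU e hηU]
  let := (g.appLE ⊤ U e).hom.toAlgebra
  show Algebra.FormallySmooth Γ(Spec (CommRingCat.of k), ⊤) L
  rw [← RingHom.formallySmooth_algebraMap]
  have hρ : g.appLE ⊤ U e = (Scheme.ΓSpecIso (CommRingCat.of k)).hom ≫ ρ := by
    apply Spec.map_injective
    rw [← cancel_mono (Scheme.isoSpec (Spec (CommRingCat.of k))).inv, ← IsAffineOpen.fromSpec_top,
      IsAffineOpen.SpecMap_appLE_fromSpec g (isAffineOpen_top _) hU e, Spec.map_comp, Category.assoc,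
      Spec.map_preimage, IsAffineOpen.fromSpec_top, Scheme.isoSpec_Spec_inv, ← Spec.map_comp, Iso.inv_hom_id,
      Spec.map_id, Category.comp_id]
  have he : algebraMap Γ(Spec (CommRingCat.of k), ⊤) L =
      (algebraMap k L).comp (Scheme.ΓSpecIso (CommRingCat.of k)).hom.hom := by
    ext x
    show algebraMap Γ(Z, U) L ((g.appLE ⊤ U e).hom x) = algebraMap A L (ρ.hom _)
    rw [hρ]
    rfl
  rw [he]
  exact RingHom.FormallySmooth.respectsIso.2 _ (Scheme.ΓSpecIso (CommRingCat.of k)).commRingCatIsoToRingEquiv
    (RingHom.formallySmooth_algebraMap.mpr inferInstance)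

/-- The smooth locus of a geometrically reduced scheme is dense. -/
theorem dense_smoothLocus (g : Z ⟶ Spec (CommRingCat.of k)) [LocallyOfFinitePresentation g]
    [GeometricallyReduced g] : Dense (g.smoothLocus : Set Z) := by
  intro x
  let C := irreducibleComponent x
  obtain ⟨η, hη⟩ := QuasiSober.sober (isIrreducible_irreducibleComponent (x := x)) isClosed_irreducibleComponent
  refine closure_mono (Set.singleton_subset_iff.mpr (mem_smoothLocus_of_maximal g fun w hw => ?_))
    (hη.specializes mem_irreducibleComponent).mem_closure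
  have h1 : irreducibleComponent x ⊆ closure {w} := by
    rw [← hη.def]
    exact closure_minimal (Set.singleton_subset_iff.mpr hw.mem_closure) isClosed_closure
  have h2 : closure {w} ⊆ irreducibleComponent x :=
    ((irreducibleComponent_mem_irreducibleComponents x).2 ⟨isIrreducible_singleton.closure.1,
      isIrreducible_singleton.closure.2⟩ h1)
  exact hw.antisymm (hη.specializes (h2 (subset_closure rfl))) |>.eq

end GrothLib.SepPts
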